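import Groth.Agent.QCohSupX.Largest
import Groth.Agent.QCoh.ClosedPush
import Groth.Agent.QCoh.Pullback
import Groth.Prelude.Def_QCohCat

/-!
# The right adjoint of the direct image of quasi-coherent modules along a closed immersion
-/

set_option linter.style.haveILetI false
set_option linter.unusedSectionVars false
set_option backward.isDefEq.respectTransparency false
set_option backward.isDefEq.respectTransparency.types false

universe u

open CategoryTheory CategoryTheory.Limits AlgebraicGeometry TopologicalSpace Opposite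

noncomputable section

namespace Groth.Agent.QCohSupX

open Groth.Agent

variable {X Z : Scheme.{u}} (i : Z ⟶ X) [IsClosedImmersion i]

/-- The sections killed by the ideal of the closed subscheme. -/
def annSub (G : X.Modules) : QCoh.SubMod G where
  mem U :=
    { carrier := {s | ∀ (V : X.Opens) (h : V ≤ U) (a : Γ(X, V)), i.app V a = 0 →
        a • G.presheaf.map (homOfLE h).op s = 0}
      add_mem' := fun {s t} hs ht V h a ha => by rw [map_add, smul_add, hs V h a ha, ht V h a ha, add_zero]
      zero_mem' := fun V h a _ => by rw [map_zero, smul_zero]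
      smul_mem' := fun r s hs V h a ha => by
        rw [QCoh.map_smul', smul_comm, hs V h a ha, smul_zero] }
  map_mem {U V} j {s} hs W h a ha := by
    rw [QCoh.map_map]
    exact hs W (h.trans j) a ha
  of_locally U s hs V h a ha := by
    refine QCoh.eq_zero_of_locally _ _ fun x hx => ?_
    obtain ⟨W, j, hxW, hW⟩ := hs x (h hx)
    refine ⟨V ⊓ W, homOfLE inf_le_left, ⟨hx, hxW⟩, ?_⟩
    have h0 : i.app (V ⊓ W) (X.presheaf.map (homOfLE (inf_le_left : V ⊓ W ≤ V)).op a) = 0 := by
      rw [← CommRingCat.comp_apply, i.naturality, CommRingCat.comp_apply, ha, map_zero]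
    rw [QCoh.map_smul', QCoh.map_map]
    have := hW (V ⊓ W) inf_le_right _ h0
    rw [QCoh.map_map] at this
    exact this

theorem exists_preimage (U : Z.Opens) : ∃ V : X.Opens, i ⁻¹ᵁ V = U := by
  obtain ⟨W, hW, h⟩ := i.isClosedEmbedding.isInducing.isOpen_iff.1 U.2
  exact ⟨⟨W, hW⟩, Opens.ext h⟩

theorem push_hom_ext {M N : Z.Modules} {φ ψ : M ⟶ N}
    (h : (Scheme.Modules.pushforward i).map φ = (Scheme.Modules.pushforward i).map ψ) : φ = ψ :=
  QCoh.hom_ext_app fun U s => by
    obtain ⟨V, rfl⟩ := exists_preimage i U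
    exact congr(($h).app V s)

theorem isIso_of_push {M N : Z.Modules} (φ : M ⟶ N) [IsIso ((Scheme.Modules.pushforward i).map φ)] : IsIso φ := by
  refine Scheme.Modules.Hom.isIso_iff_isIso_app.2 fun U => ?_
  obtain ⟨V, rfl⟩ := exists_preimage i U
  exact inferInstanceAs (IsIso (((Scheme.Modules.pushforward i).map φ).app V))

theorem push_killed (F : Z.Modules) (V : X.Opens) (a : Γ(X, V)) (ha : i.app V a = 0)
    (s : Γ((Scheme.Modules.pushforward i).obj F, V)) : a • s = 0 := by
  show (i.app V a) • (show Γ(F, i ⁻¹ᵁ V) from s) = 0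
  rw [ha, zero_smul]

theorem isIso_counit_closed {F : Z.Modules} (hF : Coh.IsQCoh F) :
    IsIso ((Scheme.Modules.pullbackPushforwardAdjunction i).counit.app F) := by
  let adj := Scheme.Modules.pullbackPushforwardAdjunction i
  haveI : IsIso (adj.unit.app ((Scheme.Modules.pushforward i).obj F)) :=
    (QCoh.isIso_unit_closed_iff i (QCoh.isQCoh_pushforward i hF)).2 fun U a ha s => by
      rw [Scheme.Hom.ker_apply] at ha
      exact push_killed i F U.1 a ha s
  haveI : IsIso ((Scheme.Modules.pushforward i).map (adj.counit.app F)) := by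
    have h := adj.right_triangle_components F
    exact IsIso.of_isIso_fac_left h
  exact isIso_of_push i _

theorem push_obj_isQCoh (F : QCohCat.QCoh Z) : QCohCat.isQCoh X ((Coh.push i).obj F.obj) :=
  QCoh.isQCoh_pushforward i F.property

/-- Direct image on quasi-coherent modules. -/
def pushQ : QCohCat.QCoh Z ⥤ QCohCat.QCoh X :=
  ObjectProperty.lift _ ((QCohCat.isQCoh Z).ι ⋙ Coh.push i) (push_obj_isQCoh i)

theorem isLeftAdjoint_pushQ : (pushQ i).IsLeftAdjoint := by
  refine isLeftAdjoint_iff_hasTerminal_costructuredArrow.2 fun G => ?_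
  let adj := Scheme.Modules.pullbackPushforwardAdjunction i
  obtain ⟨G', k, hG', hk, huniv⟩ := exists_largest (F := G.obj) G.property (annSub i G.obj).ι
  let kk := k ≫ (annSub i G.obj).ι
  have hkill : ∀ (U : X.affineOpens), ∀ a ∈ i.ker.ideal U, ∀ s : Γ(G', U.1), a • s = 0 := fun U a ha s => by
    rw [Scheme.Hom.ker_apply] at ha
    haveI : Mono kk := mono_comp _ _
    refine QCoh.app_injective kk U.1 ?_
    rw [Scheme.Modules.Hom.app_smul, map_zero]
    have := (annSub i G.obj).ι_app_mem U.1 (k.app U.1 s) U.1 le_rfl a ha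
    rwa [QCoh.map_id'] at this
  haveI := (QCoh.isIso_unit_closed_iff i hG').2 hkill
  let RG : QCohCat.QCoh Z := ⟨(Scheme.Modules.pullback i).obj G', QCoh.isQCoh_pullback i hG'⟩
  let e : (Scheme.Modules.pushforward i).obj RG.obj ⟶ G.obj := inv (adj.unit.app G') ≫ kk
  let T : CostructuredArrow (pushQ i) G := CostructuredArrow.mk (Y := RG) (ObjectProperty.homMk e)
  haveI : ∀ B : CostructuredArrow (pushQ i) G, Subsingleton (B ⟶ T) := fun B => ⟨fun g g' => by
    refine CostructuredArrow.hom_ext _ _ (ObjectProperty.hom_ext _ (push_hom_ext i ?_))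
    haveI : Mono e := mono_comp' inferInstance (mono_comp _ _)
    rw [← cancel_mono e]
    have h1 := congrArg (fun z => z.hom) (CostructuredArrow.w g)
    have h2 := congrArg (fun z => z.hom) (CostructuredArrow.w g')
    exact h1.trans h2.symm⟩
  haveI : ∀ B : CostructuredArrow (pushQ i) G, Nonempty (B ⟶ T) := fun B => by
    let F := B.left
    let φ : (Scheme.Modules.pushforward i).obj F.obj ⟶ G.obj := B.hom.hom
    have hFq := QCoh.isQCoh_pushforward i (M := F.obj) F.property
    have h0 : φ ≫ cokernel.π (annSub i G.obj).ι = 0 := QCoh.hom_ext_app fun U s => by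
      show (cokernel.π (annSub i G.obj).ι).app U (φ.app U s) = 0
      rw [QCoh.mem_range_iff_cokernel]
      obtain ⟨t, ht⟩ := (annSub i G.obj).exists_app_eq (s := φ.app U s) (fun V h a ha => by
        rw [← QCoh.map_app_comm, ← Scheme.Modules.Hom.app_smul, push_killed i F.obj V a ha, map_zero])
      exact ⟨t, ht⟩
    let φ₁ := Abelian.monoLift (annSub i G.obj).ι φ h0
    obtain ⟨φ₂, hφ₂⟩ := (huniv _ hFq).2 φ₁
    have hφ₂' : φ₂ ≫ k = φ₁ := hφ₂
    haveI := isIso_counit_closed i (F := F.obj) F.property
    let g : F.obj ⟶ RG.obj := inv (adj.counit.app F.obj) ≫ (Scheme.Modules.pullback i).map φ₂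
    refine ⟨CostructuredArrow.homMk (ObjectProperty.homMk g) (ObjectProperty.hom_ext _ ?_)⟩
    show (Scheme.Modules.pushforward i).map g ≫ inv (adj.unit.app G') ≫ kk = φ
    have h1 : adj.unit.app ((Scheme.Modules.pushforward i).obj F.obj) =
        inv ((Scheme.Modules.pushforward i).map (adj.counit.app F.obj)) :=
      IsIso.eq_inv_of_inv_hom_id (adj.right_triangle_components F.obj)
    rw [show (Scheme.Modules.pushforward i).map g ≫ inv (adj.unit.app G') ≫ kk =
        adj.unit.app _ ≫ (Scheme.Modules.pushforward i).map ((Scheme.Modules.pullback i).map φ₂) ≫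
          inv (adj.unit.app G') ≫ kk by rw [Functor.map_comp, Functor.map_inv, Category.assoc, ← h1]]
    have hn := adj.unit.naturality φ₂
    dsimp at hn
    rw [← Category.assoc, ← hn, Category.assoc, IsIso.hom_inv_id_assoc]
    show φ₂ ≫ k ≫ _ = φ
    rw [← Category.assoc, hφ₂']
    exact Abelian.monoLift_comp _ _ _
  haveI : ∀ B : CostructuredArrow (pushQ i) G, Unique (B ⟶ T) := fun B =>
    uniqueOfSubsingleton (Classical.arbitrary _)
  exact (IsTerminal.ofUnique T).hasTerminal

end Groth.Agent.QCohSupX
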