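import Groth.Agent.QCoh.ExtendFT
import Groth.Agent.QCoh.Tilde
import Groth.Agent.QCoh.TensorUnit

/-!
# The largest quasi-coherent submodule of a submodule
-/

set_option linter.style.haveILetI false
set_option backward.isDefEq.respectTransparency false
set_option backward.isDefEq.respectTransparency.types false

universe u

open CategoryTheory CategoryTheory.Limits AlgebraicGeometry TopologicalSpace Opposite

noncomputable section

namespace Groth.Agent.QCohSupX

open Groth.Agent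

variable {X : Scheme.{u}}

theorem isQCoh_image {M N : X.Modules} (hM : Coh.IsQCoh M) (hN : Coh.IsQCoh N) (φ : M ⟶ N) :
    Coh.IsQCoh (Limits.image φ) :=
  (QCoh.isQCoh_iff_iso (Abelian.imageIsoImage φ)).1 (QCoh.isQCoh_kernel hN (QCoh.isQCoh_cokernel hM hN φ) _)

theorem exists_iso_kerSub {A F : X.Modules} (m : A ⟶ F) [Mono m] :
    ∃ e : (QCoh.kerSub (cokernel.π m)).toModules ≅ A, e.hom ≫ m = (QCoh.kerSub (cokernel.π m)).ι := by
  let N := QCoh.kerSub (cokernel.π m)
  have h1 : N.ι ≫ cokernel.π m = 0 := QCoh.hom_ext_app fun U s => N.ι_app_mem U s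
  have h2 : m ≫ cokernel.π N.ι = 0 := QCoh.hom_ext_app fun U a => by
    show (cokernel.π N.ι).app U (m.app U a) = 0
    rw [QCoh.mem_range_iff_cokernel]
    obtain ⟨t, ht⟩ := N.exists_app_eq (s := m.app U a)
      (show (cokernel.π m).app U (m.app U a) = 0 from congr(($(cokernel.condition m)).app U a))
    exact ⟨t, ht⟩
  refine ⟨⟨Abelian.monoLift m N.ι h1, Abelian.monoLift N.ι m h2, ?_, ?_⟩, Abelian.monoLift_comp _ _ _⟩
  · rw [← cancel_mono N.ι, Category.assoc, Abelian.monoLift_comp, Abelian.monoLift_comp, Category.id_comp]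
  · rw [← cancel_mono m, Category.assoc, Abelian.monoLift_comp, Abelian.monoLift_comp, Category.id_comp]

theorem exists_largest {F G : X.Modules} (hF : Coh.IsQCoh F) (j : G ⟶ F) [Mono j] :
    ∃ (G' : X.Modules) (k : G' ⟶ G), Coh.IsQCoh G' ∧ Mono k ∧
      ∀ H : X.Modules, Coh.IsQCoh H → Function.Bijective (fun φ : H ⟶ G' => φ ≫ k) := by
  let ι : Type u := {N : QCoh.SubMod F // Coh.IsQCoh N.toModules ∧ ∃ l : N.toModules ⟶ G, l ≫ j = N.ι}
  let D : Discrete ι ⥤ X.Modules := Discrete.functor fun N : ι => N.1.toModules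
  have hq : Coh.IsQCoh (colimit D) := QCoh.isQCoh_colimit D fun N => N.as.2.1
  let φ : colimit D ⟶ G := colimit.desc D (Cofan.mk G fun N : ι => N.2.2.choose)
  let k : Limits.image (φ ≫ j) ⟶ G := Limits.image.lift { I := G, m := j, e := φ }
  have hk : k ≫ j = Limits.image.ι (φ ≫ j) := Limits.image.lift_fac { I := G, m := j, e := φ }
  haveI : Mono k := mono_of_mono_fac hk
  refine ⟨Limits.image (φ ≫ j), k, isQCoh_image hq hF _, inferInstance, fun H hH =>
    ⟨fun a b h => (cancel_mono k).1 h, fun ψ => ?_⟩⟩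
  obtain ⟨e, he⟩ := exists_iso_kerSub (Limits.image.ι (ψ ≫ j))
  let l : Limits.image (ψ ≫ j) ⟶ G := Limits.image.lift { I := G, m := j, e := ψ }
  have hl : l ≫ j = Limits.image.ι (ψ ≫ j) := Limits.image.lift_fac { I := G, m := j, e := ψ }
  let N : ι := ⟨QCoh.kerSub (cokernel.π (Limits.image.ι (ψ ≫ j))),
    (QCoh.isQCoh_iff_iso e).2 (isQCoh_image hH hF _), e.hom ≫ l, by rw [Category.assoc, hl, he]⟩
  refine ⟨factorThruImage (ψ ≫ j) ≫ e.inv ≫ colimit.ι D ⟨N⟩ ≫ factorThruImage (φ ≫ j), ?_⟩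
  have h1 : colimit.ι D ⟨N⟩ ≫ φ = N.2.2.choose := colimit.ι_desc _ _
  refine (cancel_mono j).1 ?_
  show ((_ ≫ _ ≫ _ ≫ _) ≫ k) ≫ j = ψ ≫ j
  rw [Category.assoc, hk, Category.assoc, Category.assoc, Category.assoc, Limits.image.fac, ← Category.assoc (colimit.ι D ⟨N⟩),
    h1, N.2.2.choose_spec, show e.inv ≫ N.1.ι = Limits.image.ι (ψ ≫ j) from (Iso.inv_comp_eq e).2 he.symm,
    Limits.image.fac]

end Groth.Agent.QCohSupX
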