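import Groth.Agent.QCohSupX.SmallSub
import Groth.Agent.QCohSupX.Largest
import Groth.Agent.QCoh.DevissageIdeal
import Groth.Agent.QCoh.Qcqs
import Groth.Agent.QCoh.TensorUnit
import Groth.Agent.KFlatLib.Scheme.Grothendieck
import Groth.Agent.H9Misc.FaithfulLeftAdjMain
import Groth.Prelude.Def_QCohCat
import Mathlib.CategoryTheory.Abelian.Subcategory
import Mathlib.CategoryTheory.Adjunction.AdjointFunctorTheorems
import Mathlib.CategoryTheory.Limits.FullSubcategory

/-!
# Quasi-coherent modules on any scheme form a Grothendieck abelian category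
-/

set_option linter.style.haveILetI false
set_option linter.unusedSectionVars false
set_option backward.isDefEq.respectTransparency false
set_option backward.isDefEq.respectTransparency.types false

universe u

open CategoryTheory CategoryTheory.Limits AlgebraicGeometry TopologicalSpace Opposite
open scoped ZeroObject

attribute [local instance] Groth.Agent.QCoh.hasFiniteBiproducts

noncomputable section

namespace Groth.Agent.QCohSupX

open Groth.Agent

variable (X : Scheme.{u})

instance isClosedUnderIso : (QCohCat.isQCoh X).IsClosedUnderIsomorphisms :=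
  ⟨fun e h => (QCoh.isQCoh_iff_iso e).1 h⟩

instance containsZero : (QCohCat.isQCoh X).ContainsZero :=
  ⟨⟨_, isZero_zero X.Modules, by
    have hz : IsZero (⨁ fun _ : PEmpty.{u+1} => (Coh.structureModule X)) :=
      (IsZero.iff_id_eq_zero _).2 (biproduct.hom_ext _ _ fun j => j.elim)
    exact (QCoh.isQCoh_iff_iso (hz.iso (isZero_zero _))).1 (QCoh.isQCoh_biproduct _ fun j => j.elim)⟩⟩

instance closedKernels : (QCohCat.isQCoh X).IsClosedUnderKernels :=
  ⟨fun K hK => by
    obtain ⟨f, k, hk, hA, hB⟩ := hK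
    exact (QCoh.isQCoh_iff_iso ((limit.isLimit _).conePointUniqueUpToIso hk)).1 (QCoh.isQCoh_kernel hA hB f)⟩

instance closedCokernels : (QCohCat.isQCoh X).IsClosedUnderCokernels :=
  ⟨fun K hK => by
    obtain ⟨f, k, hk, hA, hB⟩ := hK
    exact (QCoh.isQCoh_iff_iso ((colimit.isColimit _).coconePointUniqueUpToIso hk)).1 (QCoh.isQCoh_cokernel hA hB f)⟩

instance closedColimits (J : Type u) [SmallCategory J] : (QCohCat.isQCoh X).IsClosedUnderColimitsOfShape J :=
  ObjectProperty.IsClosedUnderColimitsOfShape.mk' (by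
    rintro _ ⟨F, hF⟩
    exact QCoh.isQCoh_colimit F hF)

instance closedFiniteProducts : (QCohCat.isQCoh X).IsClosedUnderFiniteProducts :=
  ObjectProperty.IsClosedUnderFiniteProducts.of_isClosedUnderLimitsOfShape.{u} fun J _ => by
    haveI := Fintype.ofFinite J
    refine ObjectProperty.IsClosedUnderLimitsOfShape.mk' ?_
    rintro _ ⟨F, hF⟩
    let T : J → X.Modules := fun j => F.obj ⟨j⟩
    exact (QCoh.isQCoh_iff_iso ((biproduct.isoProduct T) ≪≫ HasLimit.isoOfNatIso Discrete.natIsoFunctor.symm)).1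
      (QCoh.isQCoh_biproduct T fun j => hF ⟨j⟩)

instance hasColimits_qcoh : HasColimitsOfSize.{u, u} (QCohCat.QCoh X) :=
  ⟨fun J _ => hasColimitsOfShape_of_closedUnderColimits J (QCohCat.isQCoh X)⟩

instance preservesColimits_ι : PreservesColimitsOfSize.{u, u} (QCohCat.isQCoh X).ι :=
  ⟨fun {_} _ => inferInstance⟩

instance abelianQCoh : Abelian (QCohCat.QCoh X) := inferInstance

instance preservesFiniteLimits_ι : PreservesFiniteLimits (QCohCat.isQCoh X).ι := by
  haveI : ∀ {A B : QCohCat.QCoh X} (f : A ⟶ B), PreservesLimit (parallelPair f 0) (QCohCat.isQCoh X).ι :=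
    fun f => (QCohCat.isQCoh X).preservesKernels_ι f
  exact (QCohCat.isQCoh X).ι.preservesFiniteLimits_of_preservesKernels

instance ab5_qcoh : AB5OfSize.{u, u} (QCohCat.QCoh X) :=
  ⟨fun J _ _ => by
    haveI : ReflectsFiniteLimits (QCohCat.isQCoh X).ι := ⟨fun K _ _ => inferInstance⟩
    exact HasExactColimitsOfShape.domain_of_functor J (QCohCat.isQCoh X).ι⟩

variable {X}

/-- The target of the embeddings of small modules. -/
def amb (K : ∀ U : X.affineOpens, Submodule Γ(X, U.1) (Idx X →₀ Γ(X, U.1))) : X.Modules :=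
  ∏ᶜ fun U : X.affineOpens => (Scheme.Modules.pushforward U.2.fromSpec).obj
    ((tilde.functor Γ(X, U.1)).obj (ModuleCat.of Γ(X, U.1) ((Idx X →₀ Γ(X, U.1)) ⧸ K U)))

theorem exists_quot {U : X.Opens} (hU : IsAffineOpen U) {N : X.Modules} (hN : Coh.IsQCoh N)
    (w : Idx X → Γ(N, U)) (hw : Submodule.span Γ(X, U) (Set.range w) = ⊤) :
    ∃ K : Submodule Γ(X, U) (Idx X →₀ Γ(X, U)), Nonempty (N.restrict hU.fromSpec ≅
      (tilde.functor Γ(X, U)).obj (ModuleCat.of Γ(X, U) ((Idx X →₀ Γ(X, U)) ⧸ K))) := by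
  let j := hU.fromSpec
  let M : ModuleCat Γ(X, U) := moduleSpecΓFunctor.obj (N.restrict j)
  have hU' : j ''ᵁ ⊤ = U := (Scheme.Hom.image_top_eq_opensRange _).trans hU.opensRange_fromSpec
  let r : Γ(N, U) → Γ(N, j ''ᵁ ⊤) := QCoh.rs N hU'.le
  let w' : Idx X → M := fun i => (N.restrictAppIso j ⊤).inv (r (w i))
  have hspan : ∀ z : Γ(N, U), (show M from (N.restrictAppIso j ⊤).inv (r z)) ∈
      Submodule.span Γ(X, U) (Set.range w') := by
    intro z
    have hz : z ∈ Submodule.span Γ(X, U) (Set.range w) := hw ▸ Submodule.mem_top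
    induction hz using Submodule.span_induction with
    | mem z hz => obtain ⟨i, rfl⟩ := hz; exact Submodule.subset_span ⟨i, rfl⟩
    | zero => simp only [r, map_zero]; exact zero_mem _
    | add a b _ _ ha hb => simp only [r, map_add]; exact add_mem ha hb
    | smul a z _ hz =>
      let m : Γ(N.restrict j, ⊤) := (N.restrictAppIso j ⊤).inv (r z)
      have h1 : (N.restrictAppIso j ⊤).hom (a • m) = r (a • z) := by
        rw [QCoh.restrict_smul_spec j ⊤ a m, QCoh.chartScalar_fromSpec hU hU'.le a, QCoh.ringMap_map,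
          ← ConcreteCategory.comp_apply, Iso.inv_hom_id]
        exact (QCoh.rs_smul hU'.le a z).symm
      have h2 : (N.restrictAppIso j ⊤).inv (r (a • z)) = a • m := by
        rw [← h1, ← ConcreteCategory.comp_apply, Iso.hom_inv_id]
        rfl
      have h3 := Submodule.smul_mem (Submodule.span Γ(X, U) (Set.range w')) a hz
      exact (congrArg (fun t : M => t ∈ Submodule.span Γ(X, U) (Set.range w')) h2).mpr h3
  let q : (Idx X →₀ Γ(X, U)) →ₗ[Γ(X, U)] M := Finsupp.linearCombination _ w'
  have hq : Function.Surjective q := by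
    rw [← LinearMap.range_eq_top, Finsupp.range_linearCombination, eq_top_iff]
    intro m _
    obtain ⟨z, hz⟩ : ∃ z : Γ(N, U), (N.restrictAppIso j ⊤).inv (r z) = m := by
      refine ⟨QCoh.rs N hU'.ge ((N.restrictAppIso j ⊤).hom m), ?_⟩
      simp only [r, QCoh.rs_rs, QCoh.rs_self]
      rw [← ConcreteCategory.comp_apply, Iso.hom_inv_id]
      rfl
    exact hz ▸ hspan z
  haveI : IsIso (N.restrict j).fromTildeΓ :=
    (isQuasicoherent_iff_isIso_fromTildeΓ _).1 (QCoh.isQCoh_restrict j hN)
  exact ⟨LinearMap.ker q, ⟨(asIso (N.restrict j).fromTildeΓ).symm ≪≫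
    (tilde.functor Γ(X, U)).mapIso (LinearMap.quotKerEquivOfSurjective q hq).toModuleIso.symm⟩⟩

theorem exists_mono_amb {N : X.Modules} (hN : Coh.IsQCoh N) (h : IsSmallMod N) :
    ∃ K, ∃ m : N ⟶ amb K, Mono m := by
  choose w hw using h
  choose K e using fun U : X.affineOpens => exists_quot U.2 hN (w U) (hw U)
  let adj := fun U : X.affineOpens => Scheme.Modules.restrictAdjunction U.2.fromSpec
  let m : N ⟶ amb K := Pi.lift fun U =>
    (adj U).unit.app N ≫ (Scheme.Modules.pushforward U.2.fromSpec).map (e U).some.hom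
  refine ⟨K, m, Preadditive.mono_of_cancel_zero _ fun {Z} g hg => ?_⟩
  refine QCoh.hom_ext_app fun W z => QCoh.eq_zero_of_locally _ _ fun x hx => ?_
  obtain ⟨_, ⟨U, hU, rfl⟩, hxU, hUW⟩ :=
    X.isBasis_affineOpens.exists_subset_of_mem_open (show x ∈ (W : Set X) from hx) W.2
  replace hU : IsAffineOpen U := hU
  refine ⟨U, homOfLE hUW, hxU, ?_⟩
  rw [← QCoh.map_app_comm]
  let V : X.affineOpens := ⟨U, hU⟩
  let φ := (Scheme.Modules.pushforward V.2.fromSpec).map (e V).some.hom
  have h0 : (g ≫ (adj V).unit.app N) ≫ φ = 0 := by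
    have h := congrArg (· ≫ Pi.π _ V) hg
    simp only [Category.assoc, zero_comp] at h
    rw [Category.assoc]
    refine Eq.trans ?_ h
    refine congrArg (g ≫ ·) ?_
    rw [eq_comm]
    exact (limit.lift_π (Fan.mk N fun U : X.affineOpens =>
      (adj U).unit.app N ≫ (Scheme.Modules.pushforward U.2.fromSpec).map (e U).some.hom) ⟨V⟩)
  haveI : IsIso φ := Functor.map_isIso _ _
  have h1 : g ≫ (adj V).unit.app N = 0 := (cancel_mono φ).1 (h0.trans zero_comp.symm)
  have h2 := congr(($h1).app U (Z.presheaf.map (homOfLE hUW).op z))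
  have hW : U = hU.fromSpec ''ᵁ (hU.fromSpec ⁻¹ᵁ U) := by
    rw [Scheme.Hom.image_preimage_eq_opensRange_inf, hU.opensRange_fromSpec, inf_idem]
  refine (ConcreteCategory.bijective_of_isIso (N.presheaf.map (eqToHom hW.symm).op)).1 ?_
  rw [map_zero]
  change ((adj V).unit.app N).app U (g.app U (Z.presheaf.map (homOfLE hUW).op z)) = 0 at h2
  rw [Scheme.Modules.restrictAdjunction_unit_app_app] at h2
  exact (congr(N.presheaf.map $(Subsingleton.elim _ _) _)).trans h2

variable (X)

/-- A small family of quasi-coherent modules containing all small ones up to isomorphism. -/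
abbrev GenIdx : Type u :=
  Σ K : (∀ U : X.affineOpens, Submodule Γ(X, U.1) (Idx X →₀ Γ(X, U.1))),
    {A : Shrink.{u} (Subobject (amb K)) //
      Coh.IsQCoh (((equivShrink.{u} (Subobject (amb K))).symm A : Subobject (amb K)) : X.Modules)}

/-- The family. -/
def genObj (i : GenIdx X) : QCohCat.QCoh X := ⟨(((equivShrink.{u} (Subobject (amb i.1))).symm i.2.1 : Subobject (amb i.1)) : X.Modules), i.2.2⟩

variable {X}

theorem exists_iso_genObj (N : QCohCat.QCoh X) (h : IsSmallMod N.obj) : ∃ i, Nonempty (genObj X i ≅ N) := by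
  obtain ⟨K, m, _⟩ := exists_mono_amb N.property h
  let S := Subobject.mk m
  have e : (((equivShrink.{u} (Subobject (amb K))).symm (equivShrink.{u} _ S) : Subobject (amb K)) : X.Modules) ≅ N.obj :=
    eqToIso (congrArg (fun T : Subobject (amb K) => (T : X.Modules)) (Equiv.symm_apply_apply _ S)) ≪≫
      Subobject.underlyingIso m
  let i : GenIdx X := ⟨K, equivShrink.{u} _ S, (QCoh.isQCoh_iff_iso e).2 N.property⟩
  exact ⟨i, ⟨(QCohCat.isQCoh X).isoMk (X := genObj X i) (Y := N) e⟩⟩

variable (X)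

theorem genObj_separates : ∀ ⦃F G : QCohCat.QCoh X⦄ (f g : F ⟶ G),
    (∀ (i : GenIdx X) (h : genObj X i ⟶ F), h ≫ f = h ≫ g) → f = g := by
  intro F G f g h
  refine ObjectProperty.hom_ext _ (QCoh.hom_ext_app fun W z => sub_eq_zero.1
    (QCoh.eq_zero_of_locally _ _ fun x hx => ?_))
  obtain ⟨_, ⟨U, hU, rfl⟩, hxU, hUW⟩ :=
    X.isBasis_affineOpens.exists_subset_of_mem_open (show x ∈ (W : Set X) from hx) W.2
  refine ⟨U, homOfLE hUW, hxU, ?_⟩
  rw [map_sub, ← QCoh.map_app_comm, ← QCoh.map_app_comm, sub_eq_zero]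
  let s := F.obj.presheaf.map (homOfLE hUW).op z
  let N := closSub F.property ⟨U, hU⟩ s
  let N' : QCohCat.QCoh X := ⟨N.toModules, isQCoh_closSub F.property ⟨U, hU⟩ s⟩
  obtain ⟨i, ⟨e⟩⟩ := exists_iso_genObj N' (isSmallMod_closSub F.property ⟨U, hU⟩ s)
  let ι' : N' ⟶ F := ObjectProperty.homMk N.ι
  have h1 : ι' ≫ f = ι' ≫ g := (cancel_epi e.hom).1 (by rw [← Category.assoc, ← Category.assoc]; exact h i _)
  obtain ⟨t, ht⟩ := N.exists_app_eq (mem_closSub F.property ⟨U, hU⟩ s)
  show f.hom.app U s = g.hom.app U s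
  rw [← ht]
  exact congr(($h1).hom.app U t)

/-- `QCoh X` is Grothendieck abelian. -/
instance isGrothendieckAbelian_qcoh : IsGrothendieckAbelian.{u} (QCohCat.QCoh X) :=
  H9Misc.FaithfulLeftAdj.isGrothendieckAbelian (genObj_separates X)

/-- The special adjoint functor theorem for `QCoh X`. -/
theorem isLeftAdjoint_of_preservesColimits {A : Type*} [Category.{u} A] (F : QCohCat.QCoh X ⥤ A)
    [PreservesColimitsOfSize.{u, u} F] : F.IsLeftAdjoint := by
  have hP : (ObjectProperty.ofObj (genObj X)).IsSeparating := fun A B f g h =>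
    genObj_separates X f g fun i k => h _ (ObjectProperty.ofObj_apply _ i) k
  exact isLeftAdjoint_of_preservesColimits_of_isSeparating hP F

/-- The coherator exists. -/
theorem isLeftAdjoint_ι : ((QCohCat.isQCoh X).ι).IsLeftAdjoint :=
  isLeftAdjoint_of_preservesColimits X _

end Groth.Agent.QCohSupX
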