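import Groth.Agent.QCoh.AffineCohom
import Groth.Agent.QCoh.CechStd
import Groth.Agent.QCoh.OpenSub
import Groth.Agent.QCoh.DevissageSum
import Groth.Agent.QCoh.DevissageIdeal
import Groth.Agent.QCoh.TensorUnit
import Groth.Agent.PnCoh.Finite.SerreVanishing

/-!
# Embedding into acyclic quasi-coherent modules
-/

set_option linter.style.haveILetI false
set_option backward.isDefEq.respectTransparency false
set_option backward.isDefEq.respectTransparency.types false

universe u

open CategoryTheory CategoryTheory.Limits AlgebraicGeometry TopologicalSpace Opposite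

attribute [local instance] Groth.Agent.QCoh.hasFiniteBiproducts

noncomputable section

namespace Groth.Agent.QCohSupX

open Groth.Agent

theorem eq_zero_of_unit_app {X : Scheme.{u}} (U : X.Opens) (M : X.Modules) {W : X.Opens} (hW : W ≤ U) (s : Γ(M, W))
    (hs : ((Scheme.Modules.restrictAdjunction U.ι).unit.app M).app W s = 0) : s = 0 := by
  rw [Scheme.Modules.restrictAdjunction_unit_app_app] at hs
  have : W = U.ι ''ᵁ (U.ι ⁻¹ᵁ W) := by
    rw [Scheme.Hom.image_preimage_eq_opensRange_inf, Scheme.Opens.opensRange_ι, inf_eq_right.2 hW]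
  refine (ConcreteCategory.bijective_of_isIso (M.presheaf.map (eqToHom this.symm).op)).1 ?_
  rw [map_zero]
  exact (congr(M.presheaf.map $(Subsingleton.elim _ _) s)).trans hs

theorem exists_mono_acyclic {X : Scheme.{u}} [CompactSpace X]
    (hd : ∀ V W : X.Opens, IsAffineOpen V → IsAffineOpen W → IsAffineOpen (V ⊓ W))
    {M : X.Modules} (hM : Coh.IsQCoh M) :
    ∃ (M' : X.Modules) (i : M ⟶ M'), Mono i ∧ Coh.IsQCoh M' ∧
      ∀ p : ℕ, 0 < p → Subsingleton (Coh.HH X M' p) := by
  classical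
  obtain ⟨F, hF⟩ := isCompact_univ.elim_finite_subcover (fun V : X.affineOpens => (V.1 : Set X))
    (fun V => V.1.2) fun x _ => by
      obtain ⟨V, hV, hxV⟩ := QCoh.exists_affine_mem x
      exact Set.mem_iUnion.2 ⟨⟨V, hV⟩, hxV⟩
  have haff : ∀ V : F, IsAffineHom V.1.1.ι := fun V => by
    refine ⟨fun W hW => ?_⟩
    refine (Scheme.Hom.isAffineOpen_iff_of_isOpenImmersion V.1.1.ι).1 ?_
    rw [Scheme.Hom.image_preimage_eq_opensRange_inf, Scheme.Opens.opensRange_ι]
    exact hd _ _ V.1.2 hW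
  let T : F → X.Modules := fun V => (Coh.push V.1.1.ι).obj (M.restrict V.1.1.ι)
  let i : M ⟶ ⨁ T := biproduct.lift fun V => (Scheme.Modules.restrictAdjunction V.1.1.ι).unit.app M
  have hTq : ∀ V, Coh.IsQCoh (T V) := fun V => by
    haveI := haff V
    exact QCoh.isQCoh_pushforward _ (QCoh.isQCoh_restrict _ hM)
  refine ⟨⨁ T, i, Preadditive.mono_of_cancel_zero _ fun {Z} g hg => ?_, QCoh.isQCoh_biproduct T hTq, fun p hp => ?_⟩
  · refine QCoh.hom_ext_app fun W z => QCoh.eq_zero_of_locally _ _ fun x hx => ?_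
    obtain ⟨V, hV, hxV⟩ := Set.mem_iUnion₂.1 (hF (Set.mem_univ x))
    let V' : F := ⟨V, hV⟩
    refine ⟨W ⊓ V.1, homOfLE inf_le_left, ⟨hx, hxV⟩, ?_⟩
    rw [← QCoh.map_app_comm]
    have h1 : g ≫ (Scheme.Modules.restrictAdjunction V'.1.1.ι).unit.app M = 0 := by
      have := congrArg (· ≫ biproduct.π T V') hg
      simpa [i] using this
    refine eq_zero_of_unit_app V'.1.1 M inf_le_right _ ?_
    exact congr(($h1).app (W ⊓ V'.1.1) (Z.presheaf.map (homOfLE inf_le_left).op z))
  · obtain ⟨n, rfl⟩ : ∃ n, p = n + 1 := ⟨p - 1, by omega⟩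
    refine PnCoh.Finite.subsingleton_HH_of_decomposition (E := ⨁ T) T (biproduct.π T) (biproduct.ι T)
      (QCoh.biproduct_total' T) (n + 1) fun V => ?_
    haveI := haff V
    haveI : IsAffine V.1.1.toScheme := V.1.2
    obtain ⟨e⟩ := QCoh.HH_push_of_isAffineHom V.1.1.ι (QCoh.isQCoh_restrict V.1.1.ι hM) (n + 1)
    haveI := QCoh.subsingleton_HH_of_isAffine (QCoh.isQCoh_restrict V.1.1.ι hM) n
    exact e.symm.toEquiv.subsingleton

end Groth.Agent.QCohSupX
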