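import Groth.Agent.AmpleVan.IdealCrit
import Groth.Agent.QCoh.Support

/-!
# Epimorphisms from filtered colimits onto modules of finite type
-/

set_option linter.style.haveILetI false
set_option backward.isDefEq.respectTransparency false
set_option backward.isDefEq.respectTransparency.types false

universe u

open CategoryTheory CategoryTheory.Limits AlgebraicGeometry TopologicalSpace Opposite

noncomputable section

namespace Groth.Agent.QCohSupX

open Groth.Agent

variable {X : Scheme.{u}}

theorem epi_of_support_cokernel {M N : X.Modules} (φ : M ⟶ N) (h : CohB1.support (cokernel φ) = ∅) : Epi φ := by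
  refine Preadditive.epi_of_isZero_cokernel φ ((IsZero.iff_id_eq_zero _).2 ?_)
  refine QCoh.hom_ext_app fun U s => TopCat.Presheaf.section_ext ⟨(cokernel φ).presheaf, (cokernel φ).isSheaf⟩ _ _ _
    fun x _ => ?_
  have : Subsingleton ((cokernel φ).presheaf.stalk x) := by
    by_contra hc
    exact (Set.eq_empty_iff_forall_notMem.1 h) x hc
  exact Subsingleton.elim _ _

/-- A filtered family with jointly epimorphic maps onto a module of finite type has an epimorphic member. -/
theorem exists_epi [CompactSpace X] {J : Type u} [SmallCategory J] [IsFiltered J] (D : J ⥤ X.Modules)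
    (hD : ∀ j, Coh.IsQCoh (D.obj j)) (c : Cocone D) (hc : IsColimit c) {F : X.Modules} (hFq : Coh.IsQCoh F)
    (hF : CohB1.IsFT F) (u : c.pt ⟶ F) [Epi u] :
    ∃ j₀ : J, ∀ j : J, Nonempty (j₀ ⟶ j) → Epi (c.ι.app j ≫ u) := by
  classical
  let q : ∀ j, F ⟶ cokernel (c.ι.app j ≫ u) := fun j => cokernel.π _
  let T : J → Set X := fun j => CohB1.support (cokernel (c.ι.app j ≫ u))
  have hQt : ∀ j, CohB1.IsFT (cokernel (c.ι.app j ≫ u)) := fun j =>
    (QCoh.isFT_iff (QCoh.isQCoh_cokernel (hD j) hFq _)).2 fun W => by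
      haveI := QCoh.finite_of_isFT hFq hF W.2
      exact Module.Finite.of_surjective (QCoh.appLin (q j) W.1)
        (QCoh.app_surjective_of_epi hFq (QCoh.isQCoh_cokernel (hD j) hFq _) (q j) W.2)
  have hmono : ∀ {j j'} (a : j ⟶ j'), T j' ⊆ T j := by
    intro j j' a x hx hsub
    refine hx ⟨fun m m' => ?_⟩
    haveI : Subsingleton ((cokernel (c.ι.app j ≫ u)).presheaf.stalk x) := hsub
    obtain ⟨r, hr⟩ : ∃ r : cokernel (c.ι.app j ≫ u) ⟶ cokernel (c.ι.app j' ≫ u), q j ≫ r = q j' :=
      ⟨cokernel.desc _ (q j') (by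
        rw [← c.w a, Category.assoc, Category.assoc, ← Category.assoc (c.ι.app j'), cokernel.condition, comp_zero]),
        cokernel.π_desc _ _ _⟩
    have hz : ∀ m : (cokernel (c.ι.app j' ≫ u)).presheaf.stalk x, m = 0 := fun m => by
      obtain ⟨U, hxU, s, rfl⟩ := (cokernel (c.ι.app j' ≫ u)).presheaf.exists_germ_eq (x := x) m
      obtain ⟨_, ⟨V, hV, rfl⟩, hxV, hVU⟩ := X.isBasis_affineOpens.exists_subset_of_mem_open
        (show x ∈ (U : Set X) from hxU) U.2
      obtain ⟨t, ht⟩ := QCoh.app_surjective_of_epi hFq (QCoh.isQCoh_cokernel (hD j') hFq _) (q j') hV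
        ((cokernel (c.ι.app j' ≫ u)).presheaf.map (homOfLE (show V ≤ U from hVU)).op s)
      rw [← TopCat.Presheaf.germ_res_apply _ (homOfLE (show V ≤ U from hVU)) x hxV s, ← ht, ← hr]
      show _ = (0 : _)
      have h0 : (cokernel (c.ι.app j ≫ u)).presheaf.germ V x hxV ((q j).app V t) =
          (cokernel (c.ι.app j ≫ u)).presheaf.germ V x hxV 0 := Subsingleton.elim _ _
      obtain ⟨W, hxW, iL, iR, hW⟩ := (cokernel (c.ι.app j ≫ u)).presheaf.germ_eq x hxV hxV _ _ h0
      rw [← TopCat.Presheaf.germ_res_apply _ iL x hxW, ← QCoh.map_app_comm]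
      show _ = (0 : _)
      rw [show ((q j ≫ r).app W) ((F.presheaf.map iL.op) t) = r.app W ((q j).app W (F.presheaf.map iL.op t)) from rfl,
        QCoh.map_app_comm, hW, map_zero, map_zero, map_zero]
    rw [hz m, hz m']
  have hempty : ∀ x, ∃ j, x ∉ T j := by
    intro x
    haveI := QCoh.finite_stalk_of_isFT hFq hF x
    let R := X.presheaf.stalk x
    let P : J → Submodule R (F.presheaf.stalk x) := fun j =>
      LinearMap.range ((KFlatLib.stalkP x).map (DCoh.toP.map (c.ι.app j ≫ u))).hom
    have hP : ∀ {j j'} (a : j ⟶ j'), P j ≤ P j' := by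
      intro j j' a
      show LinearMap.range _ ≤ LinearMap.range _
      rw [← c.w a, Category.assoc, DCoh.toP.map_comp, Functor.map_comp, ModuleCat.hom_comp]
      exact LinearMap.range_comp_le_range _ _
    let S := ⨆ j, P j
    let N : ModuleCat.{u} R := ModuleCat.of R (F.presheaf.stalk x ⧸ S)
    let g : F ⟶ KFlatLib.skyObjM x N :=
      ⟨{ app := fun V => ModuleCat.ofHom (Y := KFlatLib.skyObj x N V)
          { toFun := fun a h => (S.mkQ ((F.presheaf.germ V.unop x h.down).hom a) : N)
            map_add' := fun a b => funext fun h => by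
              show S.mkQ ((F.presheaf.germ V.unop x h.down).hom (a + b)) = _
              exact ((congrArg S.mkQ (map_add (F.presheaf.germ V.unop x h.down).hom a b)).trans
                (map_add S.mkQ _ _))
            map_smul' := fun r a => funext fun h => by
              show S.mkQ ((F.presheaf.germ V.unop x h.down).hom (r • a)) =
                (X.presheaf.germ V.unop x h.down r) • (S.mkQ ((F.presheaf.germ V.unop x h.down).hom a) : N)
              exact ((congrArg S.mkQ (QCoh.germ_smul' F h.down r a)).trans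
                (map_smul S.mkQ _ _)) }
         naturality := fun {V W} i => by
           ext a
           funext h
           exact congrArg S.mkQ (F.presheaf.germ_res_apply i.unop x h.down a) }⟩
    have hg : g = 0 := by
      rw [← cancel_epi u, comp_zero]
      refine hc.hom_ext fun j => ?_
      rw [comp_zero, ← Category.assoc]
      refine QCoh.hom_ext_app fun V a => funext fun h => ?_
      show S.mkQ ((F.presheaf.germ V x h.down).hom ((c.ι.app j ≫ u).app V a)) = 0
      rw [Submodule.mkQ_apply, Submodule.Quotient.mk_eq_zero]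
      exact le_iSup P j ⟨_, KFlatLib.stalkModMap_germ (DCoh.toP.map (c.ι.app j ≫ u)) V h.down a⟩
    have hS : S = ⊤ := eq_top_iff.2 fun m _ => by
      obtain ⟨U, hxU, e, rfl⟩ := F.presheaf.exists_germ_eq (x := x) m
      rw [← Submodule.Quotient.mk_eq_zero]
      exact congrFun (congrArg (fun φ => (φ : F ⟶ KFlatLib.skyObjM x N).app U e) hg) ⟨hxU⟩
    haveI : Nonempty J := IsFiltered.nonempty
    have hdir : Directed (· ≤ ·) P := fun a b =>
      ⟨IsFiltered.max a b, hP (IsFiltered.leftToMax a b), hP (IsFiltered.rightToMax a b)⟩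
    obtain ⟨G, hG⟩ := (Module.Finite.fg_top : (⊤ : Submodule R (F.presheaf.stalk x)).FG)
    have hj : ∃ j, (G : Set (F.presheaf.stalk x)) ⊆ P j := by
      have : ∀ m ∈ G, ∃ j, m ∈ P j := fun m _ =>
        (Submodule.mem_iSup_of_directed P hdir).1 (show m ∈ S from hS.symm ▸ trivial)
      choose k hk using this
      obtain ⟨j, hj⟩ : ∃ j, ∀ m : G, Nonempty (k m.1 m.2 ⟶ j) := by
        obtain ⟨j, hj⟩ := IsFiltered.sup_objs_exists (Finset.univ.image fun m : G => k m.1 m.2)
        exact ⟨j, fun m => hj (Finset.mem_image.2 ⟨m, Finset.mem_univ _, rfl⟩)⟩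
      exact ⟨j, fun m hm => hP (hj ⟨m, hm⟩).some (hk m hm)⟩
    obtain ⟨j, hj⟩ := hj
    refine ⟨j, fun hne => hne ⟨fun m m' => ?_⟩⟩
    have hz : ∀ m : (cokernel (c.ι.app j ≫ u)).presheaf.stalk x, m = 0 := fun m => by
      obtain ⟨U, hxU, s, rfl⟩ := (cokernel (c.ι.app j ≫ u)).presheaf.exists_germ_eq (x := x) m
      obtain ⟨_, ⟨V, hV, rfl⟩, hxV, hVU⟩ := X.isBasis_affineOpens.exists_subset_of_mem_open
        (show x ∈ (U : Set X) from hxU) U.2
      obtain ⟨t, ht⟩ := QCoh.app_surjective_of_epi hFq (QCoh.isQCoh_cokernel (hD j) hFq _) (q j) hV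
        ((cokernel (c.ι.app j ≫ u)).presheaf.map (homOfLE (show V ≤ U from hVU)).op s)
      rw [← TopCat.Presheaf.germ_res_apply _ (homOfLE (show V ≤ U from hVU)) x hxV s, ← ht]
      have hmem : KFlatLib.germP (DCoh.toP.obj F) V hxV t ∈ P j :=
        (Submodule.span_le.2 hj) (hG.ge trivial)
      obtain ⟨w, hw⟩ := hmem
      have h1 : ((KFlatLib.stalkP x).map (DCoh.toP.map (q j))).hom (KFlatLib.germP (DCoh.toP.obj F) V hxV t) = 0 := by
        rw [← hw]
        refine ((congrArg (fun z => z.hom w) ((KFlatLib.stalkP x).map_comp (DCoh.toP.map (c.ι.app j ≫ u))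
          (DCoh.toP.map (q j)))).symm.trans ?_)
        rw [← DCoh.toP.map_comp, cokernel.condition]
        obtain ⟨W, hxW, a, rfl⟩ := (D.obj j).presheaf.exists_germ_eq (x := x) w
        refine (KFlatLib.stalkModMap_germ (DCoh.toP.map (0 : D.obj j ⟶ _)) W hxW a).trans ?_
        exact map_zero _
      exact (KFlatLib.stalkModMap_germ (DCoh.toP.map (q j)) V hxV t).symm.trans h1
    rw [hz m, hz m']
  choose k hk using hempty
  obtain ⟨G, hG⟩ := isCompact_univ.elim_finite_subcover (fun j => (T j)ᶜ)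
    (fun j => (QCoh.isClosed_support_of_isFT (QCoh.isQCoh_cokernel (hD j) hFq _) (hQt j)).isOpen_compl)
    fun x _ => Set.mem_iUnion.2 ⟨k x, hk x⟩
  obtain ⟨j₀, hj₀⟩ := IsFiltered.sup_objs_exists G
  refine ⟨j₀, fun j ⟨a⟩ => epi_of_support_cokernel _ (Set.eq_empty_iff_forall_notMem.2 fun x hx => ?_)⟩
  obtain ⟨i, hi, hxi⟩ := Set.mem_iUnion₂.1 (hG (Set.mem_univ x))
  exact hxi (hmono ((hj₀ hi).some ≫ a) hx)

/-- Conversely, an epimorphic member gives an epimorphism. -/
theorem epi_of_member {J : Type u} [SmallCategory J] {D : J ⥤ X.Modules} (c : Cocone D) {F : X.Modules}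
    (u : c.pt ⟶ F) (j : J) [Epi (c.ι.app j ≫ u)] : Epi u :=
  epi_of_epi (c.ι.app j) u

end Groth.Agent.QCohSupX
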