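import Groth.Agent.QCoh.ExtendFT

/-!
# Submodules generated by sections are quasi-coherent
-/

set_option linter.style.haveILetI false
set_option linter.unusedSectionVars false
set_option backward.isDefEq.respectTransparency false
set_option backward.isDefEq.respectTransparency.types false

universe u

open CategoryTheory CategoryTheory.Limits AlgebraicGeometry TopologicalSpace Opposite
open Groth.Agent.QCoh

namespace Groth.Agent.QCohSupX

variable {X : Scheme.{u}} {G : X.Modules}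

/-- The submodule `N` is generated on the open `V` by the family `T`. -/
structure Gen (N : SubMod G) (V : X.Opens) (T : Set Γ(G, V)) : Prop where
  mem : ∀ t ∈ T, t ∈ N.mem V
  gen : ∀ (O : X.Opens) (h : O ≤ V) (s : Γ(G, O)), s ∈ N.mem O → ∀ x ∈ O,
    ∃ (P : X.Opens) (hP : P ≤ O), x ∈ P ∧
      rs G hP s ∈ Submodule.span Γ(X, P) (rs G (hP.trans h) '' T)

theorem Gen.restrict {N : SubMod G} {V : X.Opens} {T : Set Γ(G, V)} (hT : Gen N V T)
    {D : X.Opens} (h : D ≤ V) : Gen N D (rs G h '' T) := by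
  refine ⟨?_, fun O hO s hs x hx => ?_⟩
  · rintro _ ⟨t, ht, rfl⟩
    exact N.map_mem h (hT.mem t ht)
  · obtain ⟨P, hP, hxP, hsP⟩ := hT.gen O (hO.trans h) s hs x hx
    refine ⟨P, hP, hxP, ?_⟩
    rwa [Set.image_image, show (fun t => rs G (hP.trans hO) (rs G h t)) =
      rs G (hP.trans (hO.trans h)) from funext fun t => rs_rs h _ t]

theorem Gen.mem_span {N : SubMod G} (hG : Coh.IsQCoh G) {V : X.Opens} {T : Set Γ(G, V)}
    (hT : Gen N V T) (hV : IsAffineOpen V) {s : Γ(G, V)} (hs : s ∈ N.mem V) :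
    s ∈ Submodule.span Γ(X, V) T :=
  mem_span_of_locally hG hV T s fun x hx => hT.gen V le_rfl s hs x hx

theorem Gen.span_le {N : SubMod G} {V : X.Opens} {T : Set Γ(G, V)} (hT : Gen N V T) :
    Submodule.span Γ(X, V) T ≤ N.mem V := Submodule.span_le.2 hT.mem

/-- The submodule is locally generated by sections on `W`. -/
def GenOn (N : SubMod G) (W : X.Opens) : Prop :=
  ∀ x ∈ W, ∃ V : X.Opens, IsAffineOpen V ∧ x ∈ V ∧ V ≤ W ∧ ∃ T : Set Γ(G, V), Gen N V T

theorem GenOn.exists_gen_le {N : SubMod G} {W : X.Opens} (hN : GenOn N W) {V : X.Opens}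
    (hV : IsAffineOpen V) {x : X} (hx : x ∈ W) (hxV : x ∈ V) :
    ∃ f : Γ(X, V), X.basicOpen f ≤ W ∧ x ∈ X.basicOpen f ∧
      ∃ T : Set Γ(G, X.basicOpen f), Gen N (X.basicOpen f) T := by
  obtain ⟨V', _, hxV', hV'W, T, hT⟩ := hN x hx
  obtain ⟨f, hf, hxf⟩ := hV.exists_basicOpen_le ⟨x, hxV'⟩ hxV
  exact ⟨f, hf.trans hV'W, hxf, _, hT.restrict hf⟩

theorem pow_smul_mem_of_le {N : SubMod G} {V : X.Opens} {f : Γ(X, V)} {z : Γ(G, V)} {P : X.Opens}
    (h : P ≤ V) {n m : ℕ} (hnm : n ≤ m) (hz : rs G h (f ^ n • z) ∈ N.mem P) :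
    rs G h (f ^ m • z) ∈ N.mem P := by
  obtain ⟨k, rfl⟩ := Nat.exists_eq_add_of_le' hnm
  rw [pow_add, mul_smul, rs_smul]
  exact Submodule.smul_mem _ _ hz

/-- A section lying in `N` on a basic open lies in `N` on a quasi-compact part of `W`, up to a power. -/
theorem exists_pow_smul_mem {N : SubMod G} {W V : X.Opens} (hG : Coh.IsQCoh G) (hN : GenOn N W)
    (hV : IsAffineOpen V) {K : X.Opens} (hKV : K ≤ V) (hKW : K ≤ W) (hK : IsCompact (K : Set X))
    (f : Γ(X, V)) (z : Γ(G, V))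
    (hz : rs G (inf_le_right.trans hKV) z ∈ N.mem (X.basicOpen f ⊓ K)) :
    ∃ n : ℕ, rs G hKV (f ^ n • z) ∈ N.mem K := by
  have h : ∀ x : K, ∃ g : Γ(X, V), X.basicOpen g ≤ K ∧ x.1 ∈ X.basicOpen g ∧
      ∃ n : ℕ, rs G (X.basicOpen_le g) (f ^ n • z) ∈ N.mem (X.basicOpen g) := by
    rintro ⟨x, hx⟩
    obtain ⟨g₀, -, hxg₀, T₀, hT₀⟩ := hN.exists_gen_le hV (hKW hx) (hKV hx)
    obtain ⟨g, hg, hxg⟩ := hV.exists_basicOpen_le (V := X.basicOpen g₀ ⊓ K) ⟨x, ⟨hxg₀, hx⟩⟩ (hKV hx)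
    have hgK : X.basicOpen g ≤ K := hg.trans inf_le_right
    refine ⟨g, hgK, hxg, ?_⟩
    have hT := hT₀.restrict (hg.trans inf_le_left)
    have hD : IsAffineOpen (X.basicOpen g) := hV.basicOpen g
    let f' := rf X (X.basicOpen_le g) f
    have he : X.basicOpen f' = X.basicOpen g ⊓ X.basicOpen f := Scheme.basicOpen_res _ _ _
    have hle : X.basicOpen f' ≤ X.basicOpen f ⊓ K :=
      le_inf (he.le.trans inf_le_right) ((he.le.trans inf_le_left).trans hgK)
    have h1 := N.map_mem hle hz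
    change rs G hle (rs G _ z) ∈ N.mem _ at h1
    rw [rs_rs] at h1
    have h2 : rs G (X.basicOpen_le f') (rs G (X.basicOpen_le g) z) ∈
        N.mem (X.basicOpen f') := by rwa [rs_rs]
    obtain ⟨n, hn⟩ := exists_pow_smul_mem_span hG hD f' _ _
      ((hT.restrict (X.basicOpen_le f')).mem_span hG (hD.basicOpen f') h2)
    refine ⟨n, ?_⟩
    rw [rs_smul, rf, map_pow]
    exact hT.span_le hn
  choose g hgK hxg n hn using h
  obtain ⟨F, hF⟩ := hK.elim_finite_subcover (fun x : K => (X.basicOpen (g x) : Set X))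
    (fun x => (X.basicOpen (g x)).2) fun x hx => Set.mem_iUnion.2 ⟨(⟨x, hx⟩ : K), hxg (⟨x, hx⟩ : K)⟩
  refine ⟨F.sup n, N.of_locally _ _ fun x hx => ?_⟩
  obtain ⟨y, hy, hxy⟩ := Set.mem_iUnion₂.1 (hF hx)
  refine ⟨X.basicOpen (g y), hgK y, hxy, ?_⟩
  change rs G (hgK y) (rs G hKV _) ∈ N.mem _
  rw [rs_rs]
  exact pow_smul_mem_of_le _ (Finset.le_sup hy) (hn y)

/-- A locally generated submodule is quasi-coherent. -/
theorem isQCoh_of_genOn (hG : Coh.IsQCoh G) {N : SubMod G} (hN : GenOn N ⊤) :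
    Coh.IsQCoh N.toModules := by
  refine isQCoh_of_sections (fun V hV f s => ?_) (fun V hV f t ht => ?_)
  · obtain ⟨n, z, hz⟩ := exists_pow_smul_eq_map hG hV f (N.ι.app _ s)
    have hzN : rs G (inf_le_right.trans le_rfl) z ∈ N.mem (X.basicOpen f ⊓ V) := by
      rw [← rs_rs (X.basicOpen_le f) inf_le_left]
      refine N.map_mem inf_le_left ?_
      rw [rs, hz]
      exact Submodule.smul_mem _ _ (N.ι_app_mem _ s)
    obtain ⟨m, hm⟩ := exists_pow_smul_mem hG hN hV le_rfl le_top hV.isCompact f z hzN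
    rw [rs_self] at hm
    obtain ⟨t, ht⟩ := N.exists_app_eq hm
    refine ⟨m + n, t, N.ι_app_injective _ ?_⟩
    rw [QCoh.ι_app_smul, map_app_comm, ht]
    show rs G _ (f ^ m • z) = _
    rw [rs_smul, rs, hz, pow_add, mul_smul]
    simp only [rf, map_pow]
  · obtain ⟨n, hn⟩ := exists_pow_smul_eq_zero hG hV f (N.ι.app _ t) (by
      rw [← map_app_comm, ht, map_zero])
    exact ⟨n, N.ι_app_injective _ (by rw [QCoh.ι_app_smul, hn, map_zero])⟩

end Groth.Agent.QCohSupX
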