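import Groth.Agent.QCoh.SerreFT
import Groth.Agent.QCohSupX.Largest
import Groth.Agent.H23.ModLoc
import Groth.Prelude.Def_QCohCat
import Mathlib.CategoryTheory.Subobject.NoetherianObject

/-!
# Noetherian objects of quasi-coherent modules
-/

set_option linter.style.haveILetI false
set_option backward.isDefEq.respectTransparency false
set_option backward.isDefEq.respectTransparency.types false

universe u

open CategoryTheory CategoryTheory.Limits AlgebraicGeometry TopologicalSpace Opposite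

attribute [local instance] Groth.Agent.QCoh.hasFiniteBiproducts

noncomputable section

namespace Groth.Agent.QCohSupX

open Groth.Agent

variable {Y : Scheme.{u}}

theorem mono_hom {A B : QCohCat.QCoh Y} (a : A ⟶ B) [Mono a] : Mono a.hom :=
  Preadditive.mono_of_cancel_zero _ fun {W} g hg => by
    have hK : QCohCat.isQCoh Y (kernel a.hom) := QCoh.isQCoh_kernel A.property B.property a.hom
    let K : QCohCat.QCoh Y := ⟨kernel a.hom, hK⟩
    let k : K ⟶ A := ObjectProperty.homMk (kernel.ι a.hom)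
    let z : K ⟶ A := ObjectProperty.homMk 0
    have h1 : k ≫ a = z ≫ a := ObjectProperty.hom_ext _ ((kernel.condition a.hom).trans zero_comp.symm)
    have h2 : kernel.ι a.hom = 0 := congrArg (fun t => t.hom) ((cancel_mono a).1 h1)
    rw [← kernel.lift_ι a.hom g hg, h2, comp_zero]

theorem mk_le_mk {M A B : QCohCat.QCoh Y} (a : A ⟶ M) [Mono a] (b : B ⟶ M) [Mono b]
    {κ : Type*} (U : κ → Y.Opens) (haff : ∀ k, IsAffineOpen (U k)) (hU : ∀ x : Y, ∃ k, x ∈ U k)
    (h : ∀ k, LinearMap.range (QCoh.appLin a.hom (U k)) ≤ LinearMap.range (QCoh.appLin b.hom (U k))) :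
    Subobject.mk a ≤ Subobject.mk b := by
  haveI := mono_hom a
  haveI := mono_hom b
  have hle := QCoh.subobject_le_of_cover A.property B.property M.property a.hom b.hom U haff hU h
  exact Subobject.mk_le_mk_of_comm (ObjectProperty.homMk (Subobject.ofMkLEMk _ _ hle))
    (ObjectProperty.hom_ext _ (Subobject.ofMkLEMk_comp hle))

theorem isNoetherianObject_of_isCoh [IsNoetherian Y] (M : QCohCat.QCoh Y) (hM : Coh.IsCoh M.obj) :
    IsNoetherianObject M := by
  rw [isNoetherianObject_iff_monotone_chain_condition]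
  intro f
  obtain ⟨F, hF⟩ := isCompact_univ.elim_finite_subcover (fun V : Y.affineOpens => (V.1 : Set Y))
    (fun V => V.1.2) fun x _ => by
      obtain ⟨V, hV, hxV⟩ := QCoh.exists_affine_mem x
      exact Set.mem_iUnion.2 ⟨⟨V, hV⟩, hxV⟩
  have hU : ∀ x : Y, ∃ k : F, x ∈ k.1.1 := fun x => by
    obtain ⟨V, hV, hxV⟩ := Set.mem_iUnion₂.1 (hF (Set.mem_univ x))
    exact ⟨⟨V, hV⟩, hxV⟩
  have hmono : ∀ (V : Y.Opens) {m n : ℕ}, m ≤ n →
      LinearMap.range (QCoh.appLin (f m).arrow.hom V) ≤ LinearMap.range (QCoh.appLin (f n).arrow.hom V) := by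
    rintro V m n hmn _ ⟨t, rfl⟩
    refine ⟨(Subobject.ofLE _ _ (f.monotone hmn)).hom.app V t, ?_⟩
    exact congr(($(Subobject.ofLE_arrow (f.monotone hmn))).hom.app V t)
  have hst : ∀ V : F, ∃ n, ∀ m, n ≤ m →
      LinearMap.range (QCoh.appLin (f m).arrow.hom V.1.1) ≤ LinearMap.range (QCoh.appLin (f n).arrow.hom V.1.1) := by
    intro V
    haveI := QCoh.finite_of_isFT hM.1 hM.2 V.1.2
    haveI : IsNoetherianRing Γ(Y, V.1.1) := IsLocallyNoetherian.component_noetherian V.1
    obtain ⟨n, hn⟩ := monotone_stabilizes_iff_noetherian.2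
      (inferInstance : _root_.IsNoetherian Γ(Y, V.1.1) Γ(M.obj, V.1.1))
      ⟨fun m => LinearMap.range (QCoh.appLin (f m).arrow.hom V.1.1), fun m k h => hmono V.1.1 h⟩
    exact ⟨n, fun m hm => (hn m hm).ge⟩
  choose N hN using hst
  refine ⟨Finset.univ.sup N, fun m hm => le_antisymm (f.monotone hm) ?_⟩
  rw [← Subobject.mk_arrow (f m), ← Subobject.mk_arrow (f (Finset.univ.sup N))]
  exact mk_le_mk _ _ (fun k : F => k.1.1) (fun k => k.1.2) hU fun k =>
    (hN k m ((Finset.le_sup (Finset.mem_univ k)).trans hm)).trans (hmono _ (Finset.le_sup (Finset.mem_univ k)))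

theorem isCoh_of_isNoetherianObject [IsNoetherian Y] (M : QCohCat.QCoh Y) [IsNoetherianObject M] :
    Coh.IsCoh M.obj := by
  let S : Set (Subobject M) := {A | CohB1.IsFT (A : QCohCat.QCoh Y).obj}
  have hS : S.Nonempty := by
    obtain ⟨A, j, _, hA, hAt, -⟩ := QCoh.SerreFT.exists_ft_containing (X := Y) (A := M.obj) M.property
      (β := PEmpty.{u+1}) (fun m => m.elim) (fun m => m.elim) (fun m => m.elim)
    let A' : QCohCat.QCoh Y := ⟨A, hA⟩
    let j' : A' ⟶ M := ObjectProperty.homMk j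
    haveI : Mono j' := (QCohCat.isQCoh Y).ι.mono_of_mono_map (by assumption)
    have e := (QCohCat.isQCoh Y).ι.mapIso (Subobject.underlyingIso j')
    refine ⟨Subobject.mk j', (QCoh.isFT_iff (Subobject.mk j' : QCohCat.QCoh Y).property).2 fun U => ?_⟩
    haveI : Module.Finite Γ(Y, U.1) Γ((QCohCat.isQCoh Y).ι.obj A', U.1) := QCoh.finite_of_isFT hA hAt U.2
    exact Module.Finite.of_surjective (QCoh.appLin e.inv U.1) fun y =>
      ⟨e.hom.app U.1 y, congr(($(e.hom_inv_id)).app U.1 y)⟩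
  obtain ⟨A, hA, hmax⟩ := (wellFounded_gt (α := Subobject M)).has_min S hS
  haveI := mono_hom A.arrow
  have hepi : Epi A.arrow.hom := by
    refine ⟨fun {Z} φ ψ h => H23.ModLoc.hom_ext_of_locally φ ψ fun x => ?_⟩
    obtain ⟨V, hV, hxV⟩ := QCoh.exists_affine_mem x
    refine ⟨V, hxV, QCoh.hom_ext_app fun W s => ?_⟩
    show φ.app (V.ι ''ᵁ W) s = ψ.app (V.ι ''ᵁ W) s
    refine sub_eq_zero.1 (QCoh.eq_zero_of_locally _ _ fun y hy => ?_)
    obtain ⟨_, ⟨U, hU, rfl⟩, hyU, hUle⟩ := Y.isBasis_affineOpens.exists_subset_of_mem_open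
      (show y ∈ ((V.ι ''ᵁ W : Y.Opens) : Set Y) from hy) (V.ι ''ᵁ W).2
    refine ⟨U, homOfLE hUle, hyU, ?_⟩
    rw [map_sub, ← QCoh.map_app_comm, ← QCoh.map_app_comm, sub_eq_zero]
    obtain ⟨B, j, _, hB, hBt, hj⟩ := QCoh.SerreFT.exists_ft_containing (X := Y) (A := M.obj) M.property
      (β := PUnit.{u+1}) (fun _ => U) (fun _ => hU) (fun _ => M.obj.presheaf.map (homOfLE hUle).op s)
    obtain ⟨w, hw⟩ := hj ⟨⟩
    let T : ULift.{u} Bool → Y.Modules := fun b => match b.down with
      | true => (A : QCohCat.QCoh Y).obj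
      | false => B
    have hTq : ∀ b, Coh.IsQCoh (T b) := fun ⟨b⟩ => by cases b <;> [exact hB; exact (A : QCohCat.QCoh Y).property]
    have hTt : ∀ b, CohB1.IsFT (T b) := fun ⟨b⟩ => by cases b <;> [exact hBt; exact hA]
    let τ : ⨁ T ⟶ M.obj := biproduct.desc fun b => match b with
      | ⟨true⟩ => A.arrow.hom
      | ⟨false⟩ => j
    obtain ⟨hI, hIt⟩ := QCoh.SerreFT.isFT_image (QCoh.isQCoh_biproduct T hTq) (SymX.isFT_biproduct T hTq hTt) M.property τ
    let C : QCohCat.QCoh Y := ⟨Limits.image τ, hI⟩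
    let c : C ⟶ M := ObjectProperty.homMk (Limits.image.ι τ)
    haveI : Mono c := (QCohCat.isQCoh Y).ι.mono_of_mono_map (inferInstanceAs (Mono (Limits.image.ι τ)))
    have hAC : A ≤ Subobject.mk c := by
      refine Subobject.le_mk_of_comm (ObjectProperty.homMk (biproduct.ι T ⟨true⟩ ≫ factorThruImage τ))
        (ObjectProperty.hom_ext _ ?_)
      show (biproduct.ι T ⟨true⟩ ≫ factorThruImage τ) ≫ Limits.image.ι τ = A.arrow.hom
      rw [Category.assoc, Limits.image.fac]
      exact biproduct.ι_desc _ _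
    have hCS : Subobject.mk c ∈ S := by
      have e := (QCohCat.isQCoh Y).ι.mapIso (Subobject.underlyingIso c)
      refine (QCoh.isFT_iff (Subobject.mk c : QCohCat.QCoh Y).property).2 fun U => ?_
      haveI : Module.Finite Γ(Y, U.1) Γ((QCohCat.isQCoh Y).ι.obj C, U.1) := QCoh.finite_of_isFT hI hIt U.2
      exact Module.Finite.of_surjective (QCoh.appLin e.inv U.1) fun y =>
        ⟨e.hom.app U.1 y, congr(($(e.hom_inv_id)).app U.1 y)⟩
    have hCA : Subobject.mk c ≤ A := (eq_of_le_of_not_lt hAC (fun hlt => hmax _ hCS hlt)).ge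
    let r := Subobject.ofMkLE c A hCA
    have hr : r.hom ≫ A.arrow.hom = Limits.image.ι τ := congrArg (fun z => z.hom) (Subobject.ofMkLE_arrow (h := hCA))
    have hw2 : ((biproduct.ι T ⟨false⟩ ≫ factorThruImage τ) ≫ r.hom ≫ A.arrow.hom).app U w =
        M.obj.presheaf.map (homOfLE hUle).op s := by
      rw [hr, Category.assoc, Limits.image.fac, show biproduct.ι T ⟨false⟩ ≫ τ = j from biproduct.ι_desc _ _, hw]
    refine (congrArg (φ.app U) hw2).symm.trans (Eq.trans ?_ (congrArg (ψ.app U) hw2))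
    exact congr(($h).app U (((biproduct.ι T ⟨false⟩ ≫ factorThruImage τ) ≫ r.hom).app U w))
  refine ⟨M.property, (QCoh.isFT_iff M.property).2 fun U => ?_⟩
  haveI := QCoh.finite_of_isFT (A : QCohCat.QCoh Y).property hA U.2
  exact Module.Finite.of_surjective (QCoh.appLin A.arrow.hom U.1)
    (QCoh.app_surjective_of_epi (A : QCohCat.QCoh Y).property M.property A.arrow.hom U.2)

end Groth.Agent.QCohSupX
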