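import Groth.Agent.QCohSupX.SplitSupp
import Groth.Agent.QCohSupX.Groth
import Groth.Agent.KFlatLib.Scheme.Exact
import Mathlib.CategoryTheory.Localization.Adjunction

/-!
# Restriction of quasi-coherent modules to a retrocompact open is a localization
-/

set_option linter.style.haveILetI false
set_option linter.unusedSectionVars false
set_option backward.isDefEq.respectTransparency false
set_option backward.isDefEq.respectTransparency.types false

universe u

open CategoryTheory CategoryTheory.Limits AlgebraicGeometry TopologicalSpace Opposite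

noncomputable section

namespace Groth.Agent.QCohSupX

open Groth.Agent

variable {X : Scheme.{u}} (U : X.Opens)

theorem isZero_restrict_iff (M : X.Modules) :
    IsZero ((Scheme.Modules.restrictFunctor U.ι).obj M) ↔ CohB1.support M ⊆ (U : Set X)ᶜ := by
  refine ⟨fun h x hx hxU => hx ⟨fun a b => ?_⟩, fun h => isZero_iff_sections.2 fun O s => ?_⟩
  · have hz : ∀ m : M.presheaf.stalk x, m = 0 := fun m => by
      obtain ⟨O, hxO, t, rfl⟩ := M.presheaf.exists_germ_eq (x := x) m
      rw [← TopCat.Presheaf.germ_res_apply _ (homOfLE (inf_le_left : O ⊓ U ≤ O)) x (show x ∈ O ⊓ U from ⟨hxO, hxU⟩) t,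
        app_section_eq_zero h inf_le_right (M.presheaf.map (homOfLE (inf_le_left : O ⊓ U ≤ O)).op t), map_zero]
    rw [hz a, hz b]
  · refine TopCat.Presheaf.section_ext ⟨M.presheaf, M.isSheaf⟩ (U.ι ''ᵁ O) (show Γ(M, U.ι ''ᵁ O) from s) 0
      fun x hx => ?_
    have : Subsingleton (M.presheaf.stalk x) := by
      by_contra hc
      exact h (show x ∈ CohB1.support M from hc) (U.ι_image_le O hx)
    exact Subsingleton.elim _ _

theorem isLocalization_restrict [QuasiCompact U.ι] :
    (ObjectProperty.lift (QCohCat.isQCoh (↑U : Scheme.{u}))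
        (ObjectProperty.ι (QCohCat.isQCoh X) ⋙ Scheme.Modules.restrictFunctor U.ι)
        (fun M => @Scheme.Modules.isQuasicoherent_restrictFunctor (↑U : Scheme.{u}) X U.ι
          inferInstance M.obj M.property)).IsLocalization
      (fun (A B : QCohCat.QCoh X) (f : A ⟶ B) =>
        CohB1.support (kernel f.hom) ⊆ (↑U : Set X)ᶜ ∧
          CohB1.support (cokernel f.hom) ⊆ (↑U : Set X)ᶜ) := by
  let L := ObjectProperty.lift (QCohCat.isQCoh (↑U : Scheme.{u}))
    (ObjectProperty.ι (QCohCat.isQCoh X) ⋙ Scheme.Modules.restrictFunctor U.ι)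
    (fun M => @Scheme.Modules.isQuasicoherent_restrictFunctor (↑U : Scheme.{u}) X U.ι
      inferInstance M.obj M.property)
  let G : QCohCat.QCoh (↑U : Scheme.{u}) ⥤ QCohCat.QCoh X :=
    ObjectProperty.lift _ ((QCohCat.isQCoh (↑U : Scheme.{u})).ι ⋙ Scheme.Modules.pushforward U.ι)
      fun F => QCoh.isQCoh_pushforward U.ι F.property
  let a : L ⊣ G :=
    (Scheme.Modules.restrictAdjunction U.ι).restrictFullyFaithful
      (QCohCat.isQCoh X).fullyFaithfulι (QCohCat.isQCoh (↑U : Scheme.{u})).fullyFaithfulι (Iso.refl _) (Iso.refl _)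
  haveI : G.Full := inferInstance
  haveI : G.Faithful := inferInstance
  convert a.isLocalization using 1
  ext A B f
  show _ ∧ _ ↔ IsIso (L.map f)
  let R := Scheme.Modules.restrictFunctor U.ι
  rw [← isZero_restrict_iff, ← isZero_restrict_iff]
  constructor
  · rintro ⟨h1, h2⟩
    haveI : Mono (R.map f.hom) :=
      Preadditive.mono_of_isZero_kernel _ (IsZero.of_iso h1 (PreservesKernel.iso R f.hom).symm)
    haveI : Epi (R.map f.hom) :=
      Preadditive.epi_of_isZero_cokernel _ (IsZero.of_iso h2 (PreservesCokernel.iso R f.hom).symm)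
    haveI : IsIso (R.map f.hom) := isIso_of_mono_of_epi _
    haveI : IsIso ((QCohCat.isQCoh (↑U : Scheme.{u})).ι.map (L.map f)) := ‹IsIso (R.map f.hom)›
    exact isIso_of_reflects_iso _ (QCohCat.isQCoh (↑U : Scheme.{u})).ι
  · intro h
    haveI : IsIso (R.map f.hom) :=
      inferInstanceAs (IsIso ((QCohCat.isQCoh (↑U : Scheme.{u})).ι.map (L.map f)))
    exact ⟨IsZero.of_iso (isZero_kernel_of_mono (R.map f.hom)) (PreservesKernel.iso R f.hom),
      IsZero.of_iso (isZero_cokernel_of_epi (R.map f.hom)) (PreservesCokernel.iso R f.hom)⟩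

end Groth.Agent.QCohSupX
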