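import Groth.Agent.QCohSupX.GenSub

/-!
# Every section of a quasi-coherent module lies in a small quasi-coherent submodule

The generators are indexed by lists of pairs (affine open, function on it), independently of the module.
-/

set_option linter.style.haveILetI false
set_option linter.unusedSectionVars false
set_option backward.isDefEq.respectTransparency false
set_option backward.isDefEq.respectTransparency.types false

universe u

open CategoryTheory CategoryTheory.Limits AlgebraicGeometry TopologicalSpace Opposite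
open Groth.Agent.QCoh

noncomputable section

namespace Groth.Agent.QCohSupX

variable (X : Scheme.{u})

/-- The indexing type of the generators. -/
abbrev Idx : Type u := List (Σ V : X.affineOpens, Γ(X, V.1))

variable {X}

/-- A module with few generators on every affine open. -/
def IsSmallMod (N : X.Modules) : Prop :=
  ∀ U : X.affineOpens, ∃ w : Idx X → Γ(N, U.1), Submodule.span Γ(X, U.1) (Set.range w) = ⊤

variable {F : X.Modules} (hF : Coh.IsQCoh F) (U₀ : X.affineOpens) (s : Γ(F, U₀.1))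

open Classical in
/-- The closure of a section under extension from basic opens. -/
noncomputable def elem : Idx X → Σ V : X.affineOpens, Γ(F, V.1)
  | [] => ⟨U₀, s⟩
  | ⟨V, g⟩ :: l =>
    if h : X.basicOpen g ≤ (elem l).1.1 then
      ⟨V, (exists_pow_smul_eq_map hF V.2 g (rs F h (elem l).2)).choose_spec.choose⟩
    else ⟨V, 0⟩

/-- The generators on an affine open. -/
def gens (V : X.affineOpens) : Set Γ(F, V.1) := {t | ∃ l, elem hF U₀ s l = ⟨V, t⟩}

theorem compat {V V' : X.affineOpens} {t : Γ(F, V.1)} (ht : t ∈ gens hF U₀ s V) {x : X} (hx : x ∈ V.1)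
    (hx' : x ∈ V'.1) :
    ∃ (P : X.Opens) (hP : P ≤ V.1) (hP' : P ≤ V'.1), x ∈ P ∧
      rs F hP t ∈ Submodule.span Γ(X, P) (rs F hP' '' gens hF U₀ s V') := by
  obtain ⟨l, hl⟩ := ht
  obtain ⟨g, hg, hxg⟩ := V'.2.exists_basicOpen_le (V := V.1) ⟨x, hx⟩ hx'
  have h : X.basicOpen g ≤ (elem hF U₀ s l).1.1 := by rw [hl]; exact hg
  let ex := exists_pow_smul_eq_map hF V'.2 g (rs F h (elem hF U₀ s l).2)
  have he : elem hF U₀ s (⟨V', g⟩ :: l) = ⟨V', ex.choose_spec.choose⟩ := by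
    rw [elem, dif_pos h]
  have hspec := ex.choose_spec.choose_spec
  have hu : IsUnit (X.presheaf.map (homOfLE (X.basicOpen_le g)).op g ^ ex.choose) :=
    (RingedSpace.isUnit_res_basicOpen X.toRingedSpace g).pow _
  have hl2 : rs F h (elem hF U₀ s l).2 = rs F hg t := by
    clear ex he hspec hu
    revert h
    rw [hl]
    intro h
    rfl
  refine ⟨X.basicOpen g, hg, X.basicOpen_le g, hxg, ?_⟩
  obtain ⟨v, hv⟩ := hu
  have : rs F hg t = (v⁻¹ : Γ(X, X.basicOpen g)ˣ).1 • rs F (X.basicOpen_le g) ex.choose_spec.choose := by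
    rw [show rs F (X.basicOpen_le g) ex.choose_spec.choose = _ from hspec, ← hv, ← mul_smul, Units.inv_mul, one_smul, hl2]
  rw [this]
  exact Submodule.smul_mem _ _ (Submodule.subset_span ⟨_, ⟨_, he⟩, rfl⟩)

theorem conv {V V' : X.affineOpens} {P : X.Opens} (hP : P ≤ V.1) {z : Γ(F, P)}
    (hz : z ∈ Submodule.span Γ(X, P) (rs F hP '' gens hF U₀ s V)) {x : X} (hx : x ∈ P) (hx' : x ∈ V'.1) :
    ∃ (Q : X.Opens) (hQ : Q ≤ P) (hQ' : Q ≤ V'.1), x ∈ Q ∧
      rs F hQ z ∈ Submodule.span Γ(X, Q) (rs F hQ' '' gens hF U₀ s V') := by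
  induction hz using Submodule.span_induction with
  | mem z hz =>
    obtain ⟨t, ht, rfl⟩ := hz
    obtain ⟨Q, hQ, hQ', hxQ, h⟩ := compat hF U₀ s ht (hP hx) hx'
    refine ⟨Q ⊓ P, inf_le_right, inf_le_left.trans hQ', ⟨hxQ, hx⟩, ?_⟩
    have h2 := span_image_rs_le hQ' (inf_le_left : Q ⊓ P ≤ Q) h
    rw [rs_rs] at h2 ⊢
    exact h2
  | zero =>
    refine ⟨P ⊓ V'.1, inf_le_left, inf_le_right, ⟨hx, hx'⟩, ?_⟩
    rw [rs, map_zero]
    exact zero_mem _
  | add a b _ _ ha hb =>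
    obtain ⟨Q, hQ, hQ', hxQ, h⟩ := ha
    obtain ⟨R, hR, hR', hxR, k⟩ := hb
    refine ⟨Q ⊓ R, inf_le_left.trans hQ, inf_le_left.trans hQ', ⟨hxQ, hxR⟩, ?_⟩
    rw [rs, map_add]
    refine add_mem ?_ ?_
    · have h2 := span_image_rs_le hQ' (inf_le_left : Q ⊓ R ≤ Q) h
      rwa [rs_rs] at h2
    · have h2 := span_image_rs_le hR' (inf_le_right : Q ⊓ R ≤ R) k
      rwa [rs_rs] at h2
  | smul a b _ hb =>
    obtain ⟨Q, hQ, hQ', hxQ, h⟩ := hb
    exact ⟨Q, hQ, hQ', hxQ, by rw [rs_smul]; exact Submodule.smul_mem _ _ h⟩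

/-- The submodule generated by the closure of a section. -/
def closSub : SubMod F where
  mem O :=
    { carrier := {z | ∀ x ∈ O, ∀ V : X.affineOpens, x ∈ V.1 → ∃ (P : X.Opens) (hPO : P ≤ O) (hPV : P ≤ V.1),
        x ∈ P ∧ rs F hPO z ∈ Submodule.span Γ(X, P) (rs F hPV '' gens hF U₀ s V)}
      zero_mem' := fun x hx V hxV => ⟨O ⊓ V.1, inf_le_left, inf_le_right, ⟨hx, hxV⟩, by
        rw [rs, map_zero]; exact zero_mem _⟩
      add_mem' := fun {a b} ha hb x hx V hxV => by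
        obtain ⟨Q, hQ, hQ', hxQ, h⟩ := ha x hx V hxV
        obtain ⟨R, hR, hR', hxR, k⟩ := hb x hx V hxV
        refine ⟨Q ⊓ R, inf_le_left.trans hQ, inf_le_left.trans hQ', ⟨hxQ, hxR⟩, ?_⟩
        rw [rs, map_add]
        refine add_mem ?_ ?_
        · have h2 := span_image_rs_le hQ' (inf_le_left : Q ⊓ R ≤ Q) h
          rwa [rs_rs] at h2
        · have h2 := span_image_rs_le hR' (inf_le_right : Q ⊓ R ≤ R) k
          rwa [rs_rs] at h2
      smul_mem' := fun a b hb x hx V hxV => by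
        obtain ⟨Q, hQ, hQ', hxQ, h⟩ := hb x hx V hxV
        exact ⟨Q, hQ, hQ', hxQ, by rw [rs_smul]; exact Submodule.smul_mem _ _ h⟩ }
  map_mem {O O'} i {z} hz x hx V hxV := by
    obtain ⟨P, hPO, hPV, hxP, h⟩ := hz x (i hx) V hxV
    refine ⟨P ⊓ O', inf_le_right, inf_le_left.trans hPV, ⟨hxP, hx⟩, ?_⟩
    have h2 := span_image_rs_le hPV (inf_le_left : P ⊓ O' ≤ P) h
    rw [rs_rs] at h2
    change rs F _ (rs F i z) ∈ _
    rwa [rs_rs]
  of_locally O z hz x hx V hxV := by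
    obtain ⟨R, i, hxR, hR⟩ := hz x hx
    obtain ⟨P, hPR, hPV, hxP, h⟩ := hR x hxR V hxV
    change rs F hPR (rs F i z) ∈ _ at h
    rw [rs_rs] at h
    exact ⟨P, hPR.trans i, hPV, hxP, h⟩

theorem gens_subset (V : X.affineOpens) {t : Γ(F, V.1)} (ht : t ∈ gens hF U₀ s V) :
    t ∈ (closSub hF U₀ s).mem V.1 := by
  intro x hx V' hx'
  obtain ⟨P, hP, hP', hxP, h⟩ := compat hF U₀ s ht hx hx'
  exact ⟨P, hP, hP', hxP, h⟩

theorem gen_closSub (V : X.affineOpens) : Gen (closSub hF U₀ s) V.1 (gens hF U₀ s V) :=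
  ⟨fun _ ht => gens_subset hF U₀ s V ht, fun O hO z hz x hx => by
    obtain ⟨P, hPO, _, hxP, h⟩ := hz x hx V (hO hx)
    exact ⟨P, hPO, hxP, h⟩⟩

theorem isQCoh_closSub : Coh.IsQCoh (closSub hF U₀ s).toModules :=
  isQCoh_of_genOn hF fun x _ => by
    obtain ⟨V, hV, hxV⟩ := exists_affine_mem x
    exact ⟨V, hV, hxV, le_top, _, gen_closSub hF U₀ s ⟨V, hV⟩⟩

theorem isSmallMod_closSub : IsSmallMod (closSub hF U₀ s).toModules := by
  classical
  intro U
  let N := closSub hF U₀ s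
  have hz : ∀ l, ∃ t : Γ(N.toModules, U.1), ∀ h : (elem hF U₀ s l).1 = U,
      N.ι.app U.1 t = h ▸ (elem hF U₀ s l).2 := by
    intro l
    by_cases h : (elem hF U₀ s l).1 = U
    · subst h
      obtain ⟨t, ht⟩ := N.exists_app_eq (gens_subset hF U₀ s (elem hF U₀ s l).1 ⟨l, rfl⟩)
      exact ⟨t, fun _ => ht⟩
    · exact ⟨0, fun h' => absurd h' h⟩
  choose w hw using hz
  refine ⟨w, eq_top_iff.2 fun z _ => ?_⟩
  have hmem := (gen_closSub hF U₀ s U).mem_span hF U.2 (N.ι_app_mem U.1 z)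
  have hsub : Submodule.span Γ(X, U.1) (gens hF U₀ s U) ≤
      (Submodule.span Γ(X, U.1) (Set.range w)).map (appLin N.ι U.1) := by
    rw [Submodule.map_span]
    refine Submodule.span_mono ?_
    rintro t ⟨l, hl⟩
    refine ⟨w l, ⟨l, rfl⟩, ?_⟩
    show N.ι.app U.1 (w l) = t
    rw [hw l (congrArg Sigma.fst hl)]
    generalize elem hF U₀ s l = e at hl ⊢
    subst hl
    rfl
  obtain ⟨z', hz', he⟩ := hsub hmem
  exact N.ι_app_injective U.1 he ▸ hz'

theorem mem_closSub : s ∈ (closSub hF U₀ s).mem U₀.1 := gens_subset hF U₀ s U₀ ⟨[], rfl⟩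

end Groth.Agent.QCohSupX
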