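import Groth.Agent.QCoh.Qcqs
import Groth.Agent.QCoh.Tilde
import Groth.Agent.QCoh.TensorUnit
import Groth.Agent.QCoh.DevissageSum

/-!
# Splitting a module supported off the intersection of two opens
-/

set_option linter.style.haveILetI false
set_option backward.isDefEq.respectTransparency false
set_option backward.isDefEq.respectTransparency.types false

universe u

open CategoryTheory CategoryTheory.Limits AlgebraicGeometry TopologicalSpace Opposite

noncomputable section

namespace Groth.Agent.QCohSupX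

open Groth.Agent

variable {X : Scheme.{u}}

theorem isZero_iff_sections {M : X.Modules} : IsZero M ↔ ∀ (U : X.Opens) (s : Γ(M, U)), s = 0 := by
  refine ⟨fun h U s => ?_, fun h => (IsZero.iff_id_eq_zero M).2 (QCoh.hom_ext_app fun U s => h U s)⟩
  exact congr(($(h.eq_of_src (𝟙 M) 0)).app U s)

theorem app_section_eq_zero {F : X.Modules} {W : X.Opens}
    (h : IsZero ((Scheme.Modules.restrictFunctor W.ι).obj F)) {O : X.Opens} (hO : O ≤ W) (s : Γ(F, O)) : s = 0 := by
  have key : ∀ (O' : X.Opens), O' = O → ∀ t : Γ(F, O'), (∀ q : Γ(F, O'), q = 0) → ∀ q : Γ(F, O), q = 0 := by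
    rintro _ rfl t ht q; exact ht q
  exact key (W.ι ''ᵁ (W.ι ⁻¹ᵁ O)) (by rw [Scheme.Hom.image_preimage_eq_opensRange_inf, Scheme.Opens.opensRange_ι, inf_eq_right.2 hO])
    0 (fun q => isZero_iff_sections.1 h (W.ι ⁻¹ᵁ O) q) s

theorem exists_split (U V : X.Opens) [QuasiCompact U.ι] {F : X.Modules} (hF : Coh.IsQCoh F)
    (h : IsZero ((Scheme.Modules.restrictFunctor (U ⊓ V).ι).obj F)) :
    ∃ (A : X.Modules) (i : A ⟶ F), Mono i ∧ Coh.IsQCoh A ∧
      IsZero ((Scheme.Modules.restrictFunctor U.ι).obj A) ∧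
      IsZero ((Scheme.Modules.restrictFunctor V.ι).obj (cokernel i)) := by
  let η := (Scheme.Modules.restrictAdjunction U.ι).unit.app F
  let i := kernel.ι η
  have hη : ∀ {W : X.Opens}, W ≤ U → ∀ s : Γ(F, W), η.app W s = 0 → s = 0 := fun {W} hW s hs => by
    rw [Scheme.Modules.restrictAdjunction_unit_app_app] at hs
    have : W = U.ι ''ᵁ (U.ι ⁻¹ᵁ W) := by
      rw [Scheme.Hom.image_preimage_eq_opensRange_inf, Scheme.Opens.opensRange_ι, inf_eq_right.2 hW]
    refine (ConcreteCategory.bijective_of_isIso (F.presheaf.map (eqToHom this.symm).op)).1 ?_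
    rw [map_zero]
    exact (congr(F.presheaf.map $(Subsingleton.elim _ _) s)).trans hs
  refine ⟨kernel η, i, inferInstance,
    QCoh.isQCoh_kernel hF (QCoh.isQCoh_pushforward U.ι (QCoh.isQCoh_restrict U.ι hF)) η, ?_, ?_⟩
  · refine isZero_iff_sections.2 fun W s => ?_
    refine QCoh.app_injective i (U.ι ''ᵁ W) ?_
    rw [map_zero]
    exact hη (U.ι_image_le W) _ (congr(($(kernel.condition η)).app (U.ι ''ᵁ W) s))
  · have hz : η ≫ 𝟙 _ = η := Category.comp_id _
    haveI : Epi ((Scheme.Modules.restrictFunctor V.ι).map i) := by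
      refine ⟨fun {Z} a b hab => QCoh.hom_ext_app fun W s => ?_⟩
      obtain ⟨t, ht⟩ : ∃ t, i.app (V.ι ''ᵁ W) t = s := by
        refine QCoh.exists_kernel_lift η (V.ι ''ᵁ W) s ?_
        exact app_section_eq_zero h
          (le_inf ((U.ι.image_preimage_eq_opensRange_inf _).le.trans (inf_le_left.trans U.opensRange_ι.le))
            ((U.ι.image_preimage_le _).trans (V.ι_image_le W))) _
      rw [← ht]
      exact congr(($hab).app W t)
    exact IsZero.of_iso (isZero_cokernel_of_epi _)
      (PreservesCokernel.iso (Scheme.Modules.restrictFunctor V.ι) i)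

end Groth.Agent.QCohSupX
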