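import Groth.Agent.QCoh.AnnIdeal
import Groth.Agent.QCoh.RpushStalk
import Groth.Agent.HTopCov.AlmostBlowUp
import Mathlib.AlgebraicGeometry.Morphisms.Flat
import Mathlib.RingTheory.Flat.Basic

/-!
# Scheme-theoretic support and flat base change
-/

set_option linter.style.haveILetI false
set_option backward.isDefEq.respectTransparency false
set_option backward.isDefEq.respectTransparency.types false

universe u

open CategoryTheory CategoryTheory.Limits AlgebraicGeometry TopologicalSpace Opposite
open scoped TensorProduct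

noncomputable section

namespace Groth.Agent.QCohSupX

open Groth.Agent

/-- Annihilators of finite modules commute with flat base change. -/
theorem annihilator_baseChange {A B M N : Type u} [CommRing A] [CommRing B] [Algebra A B] [Module.Flat A B]
    [AddCommGroup M] [Module A M] [Module.Finite A M] [AddCommGroup N] [Module A N] [Module B N]
    [IsScalarTower A B N] {l : M →ₗ[A] N} (h : IsBaseChange B l) :
    Module.annihilator B N = (Module.annihilator A M).map (algebraMap A B) := by
  classical
  refine le_antisymm (fun b hb => ?_) (Ideal.map_le_iff_le_comap.2 fun a ha => ?_)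
  · obtain ⟨n, v, hv⟩ := Module.Finite.exists_fin (R := A) (M := M)
    let φ : A →ₗ[A] (Fin n → M) := LinearMap.pi fun i => LinearMap.toSpanSingleton A M (v i)
    let ann : Submodule A A := Module.annihilator A M
    have hex : Function.Exact ann.subtype φ := by
      intro a
      constructor
      · intro hφ
        refine ⟨⟨a, ?_⟩, rfl⟩
        show a ∈ Module.annihilator A M
        rw [Module.mem_annihilator]
        intro m
        have hm : m ∈ Submodule.span A (Set.range v) := hv ▸ Submodule.mem_top
        induction hm using Submodule.span_induction with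
        | mem _ h => obtain ⟨i, rfl⟩ := h; exact congrFun hφ i
        | zero => exact smul_zero _
        | add x y _ _ hx hy => rw [smul_add, hx, hy, add_zero]
        | smul r x _ hx => rw [smul_comm, hx, smul_zero]
      · rintro ⟨⟨a, ha⟩, rfl⟩
        funext i
        exact Module.mem_annihilator.1 ha _
    have hex' := Module.Flat.lTensor_exact B hex
    have h0 : (φ.lTensor B) (b ⊗ₜ[A] 1) = 0 := by
      refine (TensorProduct.piRight A A B (fun _ : Fin n => M)).injective ?_
      rw [map_zero]
      funext i
      rw [LinearMap.lTensor_tmul, TensorProduct.piRight_apply, TensorProduct.piRightHom_tmul]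
      show b ⊗ₜ[A] ((1 : A) • v i) = 0
      rw [one_smul]
      refine h.equiv.injective ?_
      rw [map_zero, h.equiv_tmul, Module.mem_annihilator.1 hb]
    obtain ⟨t, ht⟩ := (hex' _).1 h0
    have key : ∀ t : B ⊗[A] ann, TensorProduct.rid A B (ann.subtype.lTensor B t) ∈
        (Module.annihilator A M).map (algebraMap A B) := by
      intro t
      induction t using TensorProduct.induction_on with
      | zero => simp
      | tmul x a =>
        rw [LinearMap.lTensor_tmul, TensorProduct.rid_tmul, Algebra.smul_def]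
        exact Ideal.mul_mem_right _ _ (Ideal.mem_map_of_mem _ a.2)
      | add x y hx hy => rw [map_add, map_add]; exact add_mem hx hy
    have := key t
    rwa [ht, TensorProduct.rid_tmul, one_smul] at this
  · rw [Ideal.mem_comap, Module.mem_annihilator]
    intro x
    obtain ⟨y, rfl⟩ := h.equiv.surjective x
    induction y using TensorProduct.induction_on with
    | zero => rw [map_zero, smul_zero]
    | add p q hp hq => rw [map_add, smul_add, hp, hq, add_zero]
    | tmul c m =>
      rw [h.equiv_tmul, algebraMap_smul, smul_comm, ← map_smul, Module.mem_annihilator.1 ha, map_zero, smul_zero]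

variable {Y X : Scheme.{u}} (f : Y ⟶ X) [Flat f] {F : X.Modules}

theorem comap_eq_annIdeal (hq : Coh.IsQCoh F) (hft : CohB1.IsFT F) (J : X.IdealSheafData)
    (hJ : ∀ U : X.affineOpens, J.ideal U = Module.annihilator Γ(X, U.1) Γ(F, U.1)) :
    J.comap f = QCoh.annIdeal (QCoh.isQCoh_pullback f hq) (QCoh.isFT_pullback f hq hft) := by
  have hp : ∀ y : Y, ∃ (U : X.affineOpens) (W : Y.affineOpens), W.1 ≤ f ⁻¹ᵁ U.1 ∧ y ∈ W.1 := fun y => by
    obtain ⟨_, ⟨U, hU, rfl⟩, hxU, -⟩ :=
      X.isBasis_affineOpens.exists_subset_of_mem_open (Set.mem_univ (f y)) isOpen_univ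
    obtain ⟨_, ⟨W, hW, rfl⟩, hyW, hWU⟩ :=
      Y.isBasis_affineOpens.exists_subset_of_mem_open (show y ∈ f ⁻¹ᵁ U from hxU) (f ⁻¹ᵁ U).2
    exact ⟨⟨U, hU⟩, ⟨W, hW⟩, hWU, hyW⟩
  choose U W hWU hyW using hp
  refine Scheme.IdealSheafData.ext_of_iSup_eq_top W (eq_top_iff.2 fun y _ => Opens.mem_iSup.2 ⟨y, hyW y⟩) fun y => ?_
  rw [HTopCov.ideal_comap_appLE f J (U y) (W y) (hWU y), hJ]
  let N := (Scheme.Modules.pullback f).obj F
  letI : Algebra Γ(X, (U y).1) Γ(Y, (W y).1) := (f.appLE (U y).1 (W y).1 (hWU y)).hom.toAlgebra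
  letI : Module Γ(X, (U y).1) Γ(N, (W y).1) := Module.compHom _ (f.appLE (U y).1 (W y).1 (hWU y)).hom
  haveI : IsScalarTower Γ(X, (U y).1) Γ(Y, (W y).1) Γ(N, (W y).1) :=
    ⟨fun a b c => mul_smul ((f.appLE (U y).1 (W y).1 (hWU y)).hom a) b c⟩
  haveI := QCoh.finite_of_isFT hq hft (U y).2
  haveI : Module.Flat Γ(X, (U y).1) Γ(Y, (W y).1) := f.flat_appLE (U y).2 (W y).2 (hWU y)
  let l : Γ(F, (U y).1) →ₗ[Γ(X, (U y).1)] Γ(N, (W y).1) :=
    { toFun := QCoh.pullSec f F (hWU y)
      map_add' := QCoh.pullSec_add f F (hWU y)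
      map_smul' := QCoh.pullSec_smul f F (hWU y) }
  exact (annihilator_baseChange
    (QCoh.isBaseChange_pullback (U y).2 f (W y).2 hq (hWU y) (fun r => rfl) l fun x => rfl)).symm

end Groth.Agent.QCohSupX
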